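import Mathlib.Algebra.Ring.GeomSum
import Mathlib.Data.Nat.Choose.Sum
import Mathlib.Tactic.Ring
import Mathlib.Tactic.Linarith

set_option autoImplicit false
universe u

namespace Groth.Agent.LefPen94

open Finset

variable {R : Type u} [CommRing R]

theorem double_sum (y z : R) (g : ℕ → R) (B : ℕ) : ∀ M ≤ B,
    (∑ i ∈ range B, ∑ j ∈ range B, if i + j < M then g (i + j) * y ^ i * z ^ j else 0) =
      ∑ m ∈ range M, g m * ∑ i ∈ range (m + 1), y ^ i * z ^ (m - i) := by
  intro M
  induction M with
  | zero => simp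
  | succ M ih =>
    intro hM
    rw [sum_range_succ _ M, ← ih (by omega), mul_sum]
    have h : ∀ i ∈ range B, (∑ j ∈ range B, if i + j < M + 1 then g (i + j) * y ^ i * z ^ j else 0) =
        (∑ j ∈ range B, if i + j < M then g (i + j) * y ^ i * z ^ j else 0) +
          if i < M + 1 then g M * (y ^ i * z ^ (M - i)) else 0 := by
      intro i _
      have : ∀ j ∈ range B, (if i + j < M + 1 then g (i + j) * y ^ i * z ^ j else 0) =
          (if i + j < M then g (i + j) * y ^ i * z ^ j else 0) +
            (if i < M + 1 then (if j = M - i then g M * (y ^ i * z ^ (M - i)) else 0) else 0) := by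
        intro j _
        rcases lt_trichotomy (i + j) M with h | h | h
        · rw [if_pos (by omega), if_pos h]
          split_ifs <;> first | omega | simp
        · rw [if_pos (by omega), if_neg (by omega), if_pos (by omega), if_pos (by omega), h,
            show M - i = j by omega]
          ring
        · rw [if_neg (by omega), if_neg (by omega)]
          split_ifs <;> first | omega | simp
      rw [sum_congr rfl this, sum_add_distrib]
      congr 1
      split_ifs with hi
      · rw [sum_ite_eq', if_pos (mem_range.2 (by omega))]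
      · simp
    rw [sum_congr rfl h, sum_add_distrib, ← sum_filter]
    congr 1
    refine sum_congr ?_ fun _ _ => rfl
    ext i; simp only [mem_filter, mem_range]; omega

theorem sub_mul_geom (y z : R) (m : ℕ) :
    (y - z) * ∑ i ∈ range (m + 1), y ^ i * z ^ (m - i) = y ^ (m + 1) - z ^ (m + 1) := by
  have := geom_sum₂_mul y z (m + 1)
  rw [mul_comm]
  simpa using this

theorem one_add_pow' (y : R) (N : ℕ) :
    (1 + y) ^ N = 1 + ∑ m ∈ range N, (N.choose (m + 1) : R) * y ^ (m + 1) := by
  rw [add_comm 1 y, add_pow, sum_range_succ']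
  simp [add_comm, mul_comm]

theorem identity_one (y z : R) (N : ℕ) :
    (1 + y) ^ N - (1 + z) ^ N = (y - z) * ∑ i ∈ range (N + 1), ∑ j ∈ range (N + 1),
      if i + j + 1 ≤ N then (N.choose (i + j + 1) : R) * y ^ i * z ^ j else 0 := by
  have := double_sum y z (fun m => (N.choose (m + 1) : R)) (N + 1) N (by omega)
  simp only [Nat.lt_iff_add_one_le] at this
  rw [this, mul_sum, one_add_pow', one_add_pow', add_sub_add_left_eq_sub, ← sum_sub_distrib]
  refine sum_congr rfl fun m _ => ?_
  rw [mul_left_comm, sub_mul_geom]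
  ring

theorem identity_two (y z : R) (a : ℕ) (ha : 1 ≤ a) :
    (1 + y) ^ a * z - (1 + z) ^ a * y = (y - z) * (-1 + ∑ i ∈ range (a + 1), ∑ j ∈ range (a + 1),
      if 1 ≤ i ∧ 1 ≤ j ∧ i + j ≤ a then (a.choose (i + j) : R) * y ^ i * z ^ j else 0) := by
  obtain ⟨b, rfl⟩ : ∃ b, a = b + 1 := ⟨a - 1, by omega⟩
  have hrw : (∑ i ∈ range (b + 1 + 1), ∑ j ∈ range (b + 1 + 1),
      if 1 ≤ i ∧ 1 ≤ j ∧ i + j ≤ b + 1 then ((b + 1).choose (i + j) : R) * y ^ i * z ^ j else 0) =
      y * z * ∑ i ∈ range (b + 1), ∑ j ∈ range (b + 1),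
        if i + j < b then ((b + 1).choose (i + j + 2) : R) * y ^ i * z ^ j else 0 := by
    rw [sum_range_succ', mul_sum]
    rw [sum_eq_zero (f := fun j => ite (1 ≤ 0 ∧ 1 ≤ j ∧ 0 + j ≤ b + 1) _ _) (fun j _ => if_neg (by omega)), add_zero]
    refine sum_congr rfl fun i _ => ?_
    rw [sum_range_succ', mul_sum, if_neg (by omega : ¬ (1 ≤ i + 1 ∧ 1 ≤ 0 ∧ i + 1 + 0 ≤ b + 1)), add_zero]
    refine sum_congr rfl fun j _ => ?_
    by_cases h : i + j < b
    · rw [if_pos h, if_pos ⟨by omega, by omega, by omega⟩, show i + 1 + (j + 1) = i + j + 2 by omega]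
      ring
    · rw [if_neg h, if_neg (by omega), mul_zero]
  rw [hrw, double_sum y z (fun m => ((b + 1).choose (m + 2) : R)) (b + 1) b (by omega), one_add_pow', one_add_pow',
    sum_range_succ', sum_range_succ', mul_add (y - z), mul_neg_one, mul_sum (a := y * z), mul_sum (a := y - z)]
  have : ∀ m ∈ range b, (y - z) * (y * z * (((b + 1).choose (m + 2) : R) * ∑ i ∈ range (m + 1), y ^ i * z ^ (m - i))) =
      ((b + 1).choose (m + 1 + 1) : R) * y ^ (m + 1 + 1) * z - ((b + 1).choose (m + 1 + 1) : R) * z ^ (m + 1 + 1) * y := by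
    intro m _
    rw [show (y - z) * (y * z * (((b + 1).choose (m + 2) : R) * ∑ i ∈ range (m + 1), y ^ i * z ^ (m - i))) =
      y * z * ((b + 1).choose (m + 2) : R) * ((y - z) * ∑ i ∈ range (m + 1), y ^ i * z ^ (m - i)) by ring, sub_mul_geom]
    ring
  rw [sum_congr rfl this, sum_sub_distrib, ← sum_mul, ← sum_mul]
  ring

end Groth.Agent.LefPen94
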